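import Mathlib

/-!
# The group of points congruent to the unit modulo a square-zero ideal has no torsion prime to the residue characteristic
-/

set_option autoImplicit false

universe u

open CategoryTheory CategoryTheory.Limits AlgebraicGeometry IsLocalRing MonObj
open MonoidalCategory CartesianMonoidalCategory

namespace Groth.Agent.SqzKer

variable {C : CommRingCat.{u}} [IsLocalRing C] (I : Ideal C)

/-- `d = a + b - c` for maps from a local scheme congruent modulo `I`. -/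
def Comb {Y : Scheme.{u}} (a b c d : Spec C ⟶ Y) : Prop :=
  ∃ (p : Y) (ra0 rb0 rc0 rd0 : Y.presheaf.stalk p ⟶ C),
    (IsLocalHom ra0.hom ∧ IsLocalHom rb0.hom ∧ IsLocalHom rc0.hom ∧ IsLocalHom rd0.hom) ∧
    (Spec.map ra0 ≫ Y.fromSpecStalk p = a ∧ Spec.map rb0 ≫ Y.fromSpecStalk p = b ∧
      Spec.map rc0 ≫ Y.fromSpecStalk p = c ∧ Spec.map rd0 ≫ Y.fromSpecStalk p = d) ∧
    (∀ r, ra0.hom r - rc0.hom r ∈ I ∧ rd0.hom r = ra0.hom r + rb0.hom r - rc0.hom r)

lemma hom_unique {Y : Scheme.{u}} {p : Y} {ra0 rb0 : Y.presheaf.stalk p ⟶ C} (hra0 : IsLocalHom ra0.hom)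
    (hrb0 : IsLocalHom rb0.hom) (h : Spec.map ra0 ≫ Y.fromSpecStalk p = Spec.map rb0 ≫ Y.fromSpecStalk p) :
    ra0 = rb0 := by
  have := (SpecToEquivOfLocalRing Y C).symm.injective (a₁ := ⟨p, ra0, hra0⟩) (a₂ := ⟨p, rb0, hrb0⟩) h
  simpa using this

lemma exists_rep {Y : Scheme.{u}} (a : Spec C ⟶ Y) (p : Y) (hp : a (closedPoint C) = p) :
    ∃ ra0 : Y.presheaf.stalk p ⟶ C, IsLocalHom ra0.hom ∧ Spec.map ra0 ≫ Y.fromSpecStalk p = a := by
  subst hp
  exact ⟨Scheme.stalkClosedPointTo a, inferInstance, Scheme.Spec_stalkClosedPointTo_fromSpecStalk a⟩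

lemma exists_comb (hI : I ^ 2 = ⊥) (hne : I ≠ ⊤) {Y : Scheme.{u}} (a b c : Spec C ⟶ Y)
    (ha : Spec.map (CommRingCat.ofHom (Ideal.Quotient.mk I)) ≫ a =
      Spec.map (CommRingCat.ofHom (Ideal.Quotient.mk I)) ≫ c)
    (hb : Spec.map (CommRingCat.ofHom (Ideal.Quotient.mk I)) ≫ b =
      Spec.map (CommRingCat.ofHom (Ideal.Quotient.mk I)) ≫ c) :
    ∃ d, Comb I a b c d := by
  haveI : Nontrivial (C ⧸ I) := Ideal.Quotient.nontrivial_iff.2 hne
  haveI : IsLocalRing (C ⧸ I) := .of_surjective' (Ideal.Quotient.mk I) Ideal.Quotient.mk_surjective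
  let q : C ⟶ CommRingCat.of (C ⧸ I) := CommRingCat.ofHom (Ideal.Quotient.mk I)
  haveI hq : IsLocalHom q.hom := IsLocalHom.of_surjective _ Ideal.Quotient.mk_surjective
  have hpt : ∀ e : Spec C ⟶ Y, Spec.map q ≫ e = Spec.map q ≫ c → e (closedPoint C) = c (closedPoint C) := by
    intro e he
    have := congr($he (closedPoint (C ⧸ I)))
    simp only [Scheme.Hom.comp_apply] at this
    have hcp : Spec.map q (closedPoint (C ⧸ I)) = closedPoint C := IsLocalRing.comap_closedPoint _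
    rwa [hcp] at this
  obtain ⟨rc0, hrc0, rc⟩ := exists_rep c (c (closedPoint C)) rfl
  obtain ⟨ra0, hra0, ra⟩ := exists_rep a (c (closedPoint C)) (hpt a ha)
  obtain ⟨rb0, hrb0, rb⟩ := exists_rep b (c (closedPoint C)) (hpt b hb)
  have key : ∀ (e : Spec C ⟶ Y) (ε : Y.presheaf.stalk (c (closedPoint C)) ⟶ C), IsLocalHom ε.hom →
      Spec.map ε ≫ Y.fromSpecStalk _ = e → Spec.map q ≫ e = Spec.map q ≫ c → ∀ r, ε.hom r - rc0.hom r ∈ I := by
    intro e ε hε re he r
    have h1 : IsLocalHom (ε ≫ q).hom := by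
      haveI := hε; rw [CommRingCat.hom_comp]; exact RingHom.isLocalHom_comp _ _
    have h2 : IsLocalHom (rc0 ≫ q).hom := by
      haveI := hrc0; rw [CommRingCat.hom_comp]; exact RingHom.isLocalHom_comp _ _
    have := hom_unique h1 h2 (by simp only [Spec.map_comp, Category.assoc, re, rc, he])
    exact Ideal.Quotient.eq.1 (congr(($this).hom r))
  have hA := key a ra0 hra0 ra ha
  have hB := key b rb0 hrb0 rb hb
  let rd0 : Y.presheaf.stalk (c (closedPoint C)) →+* C :=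
    { toFun := fun r => ra0.hom r + rb0.hom r - rc0.hom r
      map_one' := by simp
      map_zero' := by simp
      map_add' := fun r s => by simp only [map_add]; ring
      map_mul' := fun r s => by
        have z : ∀ x y : C, x ∈ I → y ∈ I → x * y = 0 := fun x y hx hy => by
          have : x * y ∈ I ^ 2 := by rw [pow_two]; exact Ideal.mul_mem_mul hx hy
          rwa [hI, Ideal.mem_bot] at this
        have e1 := z _ _ (hA r) (hB s)
        have e2 := z _ _ (hB r) (hA s)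
        simp only [map_mul]
        linear_combination (-1 : C) * e1 + (-1 : C) * e2 }
  have hrd0 : IsLocalHom rd0 := ⟨fun r hr => by
    refine hrc0.map_nonunit r ?_
    by_contra hu
    refine (IsLocalRing.mem_maximalIdeal _).1 ?_ hr
    have hmI := IsLocalRing.le_maximalIdeal hne
    have : rd0 r = rc0.hom r + ((ra0.hom r - rc0.hom r) + (rb0.hom r - rc0.hom r)) := by
      change ra0.hom r + rb0.hom r - rc0.hom r = _; ring
    rw [this]
    exact add_mem ((IsLocalRing.mem_maximalIdeal _).2 hu) (hmI (add_mem (hA r) (hB r)))⟩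
  exact ⟨_, _, ra0, rb0, rc0, CommRingCat.ofHom rd0, ⟨hra0, hrb0, hrc0, hrd0⟩, ⟨ra, rb, rc, rfl⟩, fun r => ⟨hA r, rfl⟩⟩

variable {I}

lemma Comb.comp {Y Z : Scheme.{u}} {a b c d : Spec C ⟶ Y} (h : Comb I a b c d) (g : Y ⟶ Z) :
    Comb I (a ≫ g) (b ≫ g) (c ≫ g) (d ≫ g) := by
  obtain ⟨p, ra0, rb0, rc0, rd0, ⟨hra0, hrb0, hrc0, hrd0⟩, ⟨rfl, rfl, rfl, rfl⟩, h⟩ := h
  have loc : ∀ ε : Y.presheaf.stalk p ⟶ C, IsLocalHom ε.hom → IsLocalHom (g.stalkMap p ≫ ε).hom :=
    fun ε hε => by haveI := hε; rw [CommRingCat.hom_comp]; exact RingHom.isLocalHom_comp _ _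
  refine ⟨g p, g.stalkMap p ≫ ra0, g.stalkMap p ≫ rb0, g.stalkMap p ≫ rc0, g.stalkMap p ≫ rd0,
    ⟨loc ra0 hra0, loc rb0 hrb0, loc rc0 hrc0, loc rd0 hrd0⟩, ⟨?_, ?_, ?_, ?_⟩, fun r => h _⟩ <;>
  rw [Spec.map_comp, Category.assoc, Scheme.SpecMap_stalkMap_fromSpecStalk, Category.assoc]

lemma Comb.eq_of_right {Y : Scheme.{u}} {a c d : Spec C ⟶ Y} (h : Comb I a c c d) : d = a := by
  obtain ⟨p, ra0, rb0, rc0, rd0, ⟨hra0, hrb0, hrc0, hrd0⟩, ⟨ra, rb, rc, rd⟩, h⟩ := h
  obtain rfl := hom_unique hrb0 hrc0 (rb.trans rc.symm)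
  have : rd0 = ra0 := CommRingCat.hom_ext (RingHom.ext fun r => by rw [(h r).2]; ring)
  rw [← rd, this, ra]

lemma Comb.eq_of_left {Y : Scheme.{u}} {b c d : Spec C ⟶ Y} (h : Comb I c b c d) : d = b := by
  obtain ⟨p, ra0, rb0, rc0, rd0, ⟨hra0, hrb0, hrc0, hrd0⟩, ⟨ra, rb, rc, rd⟩, h⟩ := h
  obtain rfl := hom_unique hra0 hrc0 (ra.trans rc.symm)
  have : rd0 = rb0 := CommRingCat.hom_ext (RingHom.ext fun r => by rw [(h r).2]; ring)
  rw [← rd, this, rb]

section Group

variable {S : Scheme.{u}} {E : Over S} [GrpObj E] (t : Spec C ⟶ S)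

/-- Two points congruent modulo `I`. -/
def Cong (I : Ideal C) {t : Spec C ⟶ S} (x y : Over.mk t ⟶ E) : Prop :=
  Spec.map (CommRingCat.ofHom (Ideal.Quotient.mk I)) ≫ x.left =
    Spec.map (CommRingCat.ofHom (Ideal.Quotient.mk I)) ≫ y.left

variable {t}

lemma comb_mul (hI : I ^ 2 = ⊥) (hne : I ≠ ⊤) (x y : Over.mk t ⟶ E) (hx : Cong I x 1) (hy : Cong I y 1) :
    Comb I x.left y.left (1 : Over.mk t ⟶ E).left (x * y).left := by
  let π₁ : (E ⊗ E).left ⟶ E.left := (fst E E).left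
  let π₂ : (E ⊗ E).left ⟶ E.left := (snd E E).left
  have ext2 : ∀ {W : Scheme.{u}} {u v : W ⟶ (E ⊗ E).left}, u ≫ π₁ = v ≫ π₁ → u ≫ π₂ = v ≫ π₂ → u = v :=
    fun h1 h2 => pullback.hom_ext h1 h2
  let A := (lift x (1 : Over.mk t ⟶ E)).left
  let B := (lift (1 : Over.mk t ⟶ E) y).left
  let O := (lift (1 : Over.mk t ⟶ E) (1 : Over.mk t ⟶ E)).left
  have hA1 : A ≫ π₁ = x.left := congr(($(lift_fst x (1 : Over.mk t ⟶ E))).left)
  have hA2 : A ≫ π₂ = (1 : Over.mk t ⟶ E).left := congr(($(lift_snd x (1 : Over.mk t ⟶ E))).left)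
  have hB1 : B ≫ π₁ = (1 : Over.mk t ⟶ E).left := congr(($(lift_fst (1 : Over.mk t ⟶ E) y)).left)
  have hB2 : B ≫ π₂ = y.left := congr(($(lift_snd (1 : Over.mk t ⟶ E) y)).left)
  have hO1 : O ≫ π₁ = (1 : Over.mk t ⟶ E).left := congr(($(lift_fst (1 : Over.mk t ⟶ E) (1 : Over.mk t ⟶ E))).left)
  have hO2 : O ≫ π₂ = (1 : Over.mk t ⟶ E).left := congr(($(lift_snd (1 : Over.mk t ⟶ E) (1 : Over.mk t ⟶ E))).left)
  obtain ⟨d, hd⟩ := exists_comb I hI hne A B O
    (ext2 (by simp only [Category.assoc, hA1, hO1]; exact hx) (by simp only [Category.assoc, hA2, hO2]))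
    (ext2 (by simp only [Category.assoc, hB1, hO1]) (by simp only [Category.assoc, hB2, hO2]; exact hy))
  have hd' : d = (lift x y).left := by
    refine ext2 ?_ ?_
    · have := hd.comp π₁
      rw [hA1, hB1, hO1] at this
      rw [this.eq_of_right]
      exact congr(($(lift_fst x y)).left).symm
    · have := hd.comp π₂
      rw [hA2, hB2, hO2] at this
      rw [this.eq_of_left]
      exact congr(($(lift_snd x y)).left).symm
  have hm := hd.comp μ[E].left
  have e : ∀ u v : Over.mk t ⟶ E, (lift u v).left ≫ μ[E].left = (u * v).left := fun u v => rfl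
  rw [hd', e, e, e, e, _root_.mul_one, _root_.one_mul, _root_.one_mul] at hm
  exact hm

/-- No torsion prime to the residue characteristic in the kernel of reduction. -/
theorem eq_one_of_pow_eq_one (hI : I ^ 2 = ⊥) (hne : I ≠ ⊤) (x : Over.mk t ⟶ E) (hx : Cong I x 1)
    (n : ℕ) (hn : IsUnit (n : C)) (hxn : x ^ n = 1) : x = 1 := by
  obtain ⟨rc0, hrc0, rc⟩ := exists_rep (1 : Over.mk t ⟶ E).left _ rfl
  have hpt : x.left (closedPoint C) = (1 : Over.mk t ⟶ E).left (closedPoint C) := by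
    haveI : Nontrivial (C ⧸ I) := Ideal.Quotient.nontrivial_iff.2 hne
    haveI : IsLocalRing (C ⧸ I) := .of_surjective' (Ideal.Quotient.mk I) Ideal.Quotient.mk_surjective
    haveI : IsLocalHom (CommRingCat.ofHom (Ideal.Quotient.mk I)).hom :=
      IsLocalHom.of_surjective _ Ideal.Quotient.mk_surjective
    have := congr($hx (closedPoint (C ⧸ I)))
    simp only [Scheme.Hom.comp_apply] at this
    have hcp : Spec.map (CommRingCat.ofHom (Ideal.Quotient.mk I)) (closedPoint (C ⧸ I)) = closedPoint C :=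
      IsLocalRing.comap_closedPoint _
    rwa [hcp] at this
  obtain ⟨ra0, hra0, ra⟩ := exists_rep x.left _ hpt
  have key : ∀ m : ℕ, Cong I (x ^ m) 1 ∧ ∃ rn0 : _ ⟶ C, IsLocalHom rn0.hom ∧
      Spec.map rn0 ≫ E.left.fromSpecStalk _ = (x ^ m).left ∧
      ∀ r, rn0.hom r = rc0.hom r + (m : C) * (ra0.hom r - rc0.hom r) := by
    intro m
    induction m with
    | zero =>
      rw [pow_zero]
      exact ⟨rfl, rc0, hrc0, rc, fun r => by simp⟩
    | succ m ih =>
      obtain ⟨hc, rn0, hrn0, rrn0, hrn0r⟩ := ih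
      obtain ⟨p, a', b', c', d', ⟨la, lb, lc, ld⟩, ⟨r1, r2, r3, r4⟩, hr⟩ := comb_mul hI hne (x ^ m) x hc hx
      obtain rfl : p = (1 : Over.mk t ⟶ E).left (closedPoint C) := by
        rw [← r3]; simp [Scheme.Hom.comp_apply]
      obtain rfl := hom_unique la hrn0 (r1.trans rrn0.symm)
      obtain rfl := hom_unique lb hra0 (r2.trans ra.symm)
      obtain rfl := hom_unique lc hrc0 (r3.trans rc.symm)
      rw [← pow_succ] at r4
      have hval : ∀ r, d'.hom r = c'.hom r + ((m + 1 : ℕ) : C) * (b'.hom r - c'.hom r) := fun r => by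
        rw [(hr r).2, hrn0r r]; push_cast; ring
      have hxI : ∀ r, b'.hom r - c'.hom r ∈ I := fun r => by
        obtain ⟨p', a'', b'', c'', d'', ⟨la', lb', lc', ld'⟩, ⟨s1, s2, s3, s4⟩, hr'⟩ := comb_mul hI hne x 1 hx rfl
        obtain rfl : p' = (1 : Over.mk t ⟶ E).left (closedPoint C) := by
          rw [← s3]; simp [Scheme.Hom.comp_apply]
        obtain rfl := hom_unique la' lb (s1.trans ra.symm)
        obtain rfl := hom_unique lc' lc (s3.trans rc.symm)
        exact (hr' r).1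
      refine ⟨?_, d', ld, r4, hval⟩
      unfold Cong
      have hq : d' ≫ CommRingCat.ofHom (Ideal.Quotient.mk I) = c' ≫ CommRingCat.ofHom (Ideal.Quotient.mk I) :=
        CommRingCat.hom_ext (RingHom.ext fun r => Ideal.Quotient.eq.2 (show d'.hom r - c'.hom r ∈ I by
          rw [hval, add_sub_cancel_left]; exact I.mul_mem_left _ (hxI r)))
      refine ((congrArg (Spec.map (CommRingCat.ofHom (Ideal.Quotient.mk I)) ≫ ·) r4).symm.trans ?_).trans
        (congrArg (Spec.map (CommRingCat.ofHom (Ideal.Quotient.mk I)) ≫ ·) r3)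
      dsimp only
      rw [← Spec.map_comp_assoc, hq, Spec.map_comp_assoc]
  obtain ⟨-, rn0, hrn0, rrn0, hrn0r⟩ := key n
  rw [hxn] at rrn0
  obtain rfl := hom_unique hrn0 hrc0 (rrn0.trans rc.symm)
  have : ra0 = rn0 := CommRingCat.hom_ext (RingHom.ext fun r => sub_eq_zero.1 (hn.mul_right_eq_zero.1
    (left_eq_add.1 (hrn0r r))))
  exact Over.OverMorphism.ext (by rw [← ra, this]; exact rc)

end Group

end Groth.Agent.SqzKer
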